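import Groth.Agent.SimpGrp.Basic

/-!
# The simplicial identities used in Moore's algorithm, and Kan fibrations of simplicial groups
-/

universe u

open CategoryTheory Simplicial Opposite

namespace Groth.Agent.SimpGrp

lemma key_aux (X : SSet.{u}) {m : ℕ} {i : Fin (m + 3)} {y : Fin (m + 3) → X _⦋m + 1⦌} (hc : Compat i y)
    (x : X _⦋m + 2⦌) (jp : Fin (m + 2)) (j l : Fin (m + 3)) (hj : j = jp.castSucc ∨ j = jp.succ)
    (h₁ : l ≠ jp.castSucc) (h₂ : l ≠ jp.succ) (hl : l ≠ i) (hji : j ≠ i) (hx : X.δ l x = y l) :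
    ∃ (jp' : Fin (m + 1)) (l' : Fin (m + 2)),
      X.δ l' (X.δ j x) = X.δ l' (y j) ∧ ∀ w, X.δ l (X.σ jp w) = X.σ jp' (X.δ l' w) := by
  have e₁ : l.val ≠ jp.val := fun e => h₁ (Fin.ext (by simpa using e))
  have e₂ : l.val ≠ jp.val + 1 := fun e => h₂ (Fin.ext (by simpa using e))
  have ej : jp.val ≤ j.val ∧ j.val ≤ jp.val + 1 := by rcases hj with rfl | rfl <;> simp
  rcases lt_or_gt_of_ne e₁ with h | h
  · obtain ⟨l', rfl⟩ : ∃ l' : Fin (m + 2), l'.castSucc = l := ⟨⟨l.val, by omega⟩, rfl⟩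
    obtain ⟨q, rfl⟩ : ∃ q : Fin (m + 1), q.succ = jp :=
      ⟨⟨jp.val - 1, by omega⟩, Fin.ext (by simp only [Fin.val_succ]; omega)⟩
    simp only [Fin.val_castSucc, Fin.val_succ] at h ej
    refine ⟨q, l', ?_, fun w => ?_⟩
    · have hlt : l'.castSucc < j := by rw [Fin.lt_def, Fin.val_castSucc]; omega
      refine (ConcreteCategory.congr_hom (SimplicialObject.δ_comp_δ' X hlt) x).trans ?_
      show X.δ _ (X.δ l'.castSucc x) = _
      rw [hx]
      exact hc l'.castSucc j hl hji hlt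
    · exact ConcreteCategory.congr_hom
        (SimplicialObject.δ_comp_σ_of_le X (i := l') (j := q) (by rw [Fin.le_def, Fin.val_castSucc]; omega)) w
  · obtain ⟨l', rfl⟩ : ∃ l' : Fin (m + 2), l'.succ = l :=
      ⟨⟨l.val - 1, by omega⟩, Fin.ext (by simp only [Fin.val_succ]; omega)⟩
    simp only [Fin.val_succ] at h e₂
    obtain ⟨q, rfl⟩ : ∃ q : Fin (m + 1), q.castSucc = jp := ⟨⟨jp.val, by omega⟩, rfl⟩
    simp only [Fin.val_castSucc] at h ej e₂
    refine ⟨q, l', ?_, fun w => ?_⟩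
    · have hle : j ≤ l'.castSucc := by rw [Fin.le_def, Fin.val_castSucc]; omega
      have hlt : j < l'.succ := by rw [Fin.lt_def, Fin.val_succ]; omega
      refine (ConcreteCategory.congr_hom (SimplicialObject.δ_comp_δ'' X hle).symm x).trans ?_
      show X.δ _ (X.δ l'.succ x) = _
      rw [hx]
      have := hc j l'.succ hji hl hlt
      simp only [Fin.pred_succ] at this
      exact this.symm
    · exact ConcreteCategory.congr_hom
        (SimplicialObject.δ_comp_σ_of_gt X (i := l') (j := q) (by rw [Fin.lt_def, Fin.val_castSucc]; omega)) w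

lemma self_aux (X : SSet.{u}) {n : ℕ} (j : Fin (n + 1)) (w : X _⦋n⦌) :
    X.δ j.castSucc (X.σ j w) = w ∧ X.δ j.succ (X.σ j w) = w :=
  ⟨ConcreteCategory.congr_hom (SimplicialObject.δ_comp_σ_self X) w,
    ConcreteCategory.congr_hom (SimplicialObject.δ_comp_σ_succ X) w⟩

lemma app_δ {X Y : SSet.{u}} (f : X ⟶ Y) {n : ℕ} (j : Fin (n + 2)) (x : X _⦋n + 1⦌) :
    f.app _ (X.δ j x) = Y.δ j (f.app _ x) :=
  ConcreteCategory.congr_hom (f.naturality (SimplexCategory.δ j).op) x

lemma app_σ {X Y : SSet.{u}} (f : X ⟶ Y) {n : ℕ} (j : Fin (n + 1)) (x : X _⦋n⦌) :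
    f.app _ (X.σ j x) = Y.σ j (f.app _ x) :=
  ConcreteCategory.congr_hom (f.naturality (SimplexCategory.σ j).op) x

/-- Surjective maps of simplicial groups are Kan fibrations. -/
theorem rlp_J_grp {X Y : SimplicialObject GrpCat.{u}} (f : X ⟶ Y)
    (hf : ∀ n, Function.Surjective (f.app n)) :
    SSet.modelCategoryQuillen.J.rlp (X := X ⋙ forget GrpCat.{u}) (Y := Y ⋙ forget GrpCat.{u})
      (Functor.whiskerRight f (forget GrpCat.{u})) := by
  let X' : SSet.{u} := X ⋙ forget GrpCat.{u}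
  let f' : X' ⟶ (Y ⋙ forget GrpCat.{u} : SSet.{u}) := Functor.whiskerRight f (forget GrpCat.{u})
  refine rlp_J_of_fill f' fun n i (y : Fin (n + 2) → X.obj (op ⦋n⦌)) (b : Y.obj (op ⦋n + 1⦌)) hc hy => ?_
  obtain ⟨x₀, hx₀⟩ := hf (op ⦋n + 1⦌) b
  have hk : ∀ x jp (j : Fin (n + 2)), (j = Fin.castSucc jp ∨ j = Fin.succ jp) → j ≠ i → f.app _ x = b →
      f.app _ ((X.σ jp).hom (((X.δ j).hom x)⁻¹ * y j)) = 1 := by
    intro x jp j _ hji hx
    have h2 : f.app _ (((X.δ j).hom x)⁻¹ * y j) = 1 := by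
      rw [map_mul, map_inv]
      have h3 : f.app _ ((X.δ j).hom x) = f.app _ (y j) := by
        refine (app_δ f' j x).trans ?_
        rw [show f'.app (op ⦋n + 1⦌) x = b from hx]
        exact (hy j hji).symm
      rw [h3]; exact inv_mul_cancel _
    refine (app_σ f' jp _).trans ?_
    show (Y.σ jp).hom (f.app _ _) = 1
    rw [h2, map_one]
  exact fill n (fun j => (X.δ j).hom) (fun j => (X.σ j).hom) (f.app (op ⦋n + 1⦌)).hom b i y
    (fun j w => (self_aux X' j w).1) (fun j w => (self_aux X' j w).2)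
    (by
      obtain _ | m := n
      · intro x jp j l _ h₁ h₂
        exfalso
        rcases Fin.exists_fin_two.1 ⟨l, rfl⟩ with h | h <;> subst h
        · exact h₁ (Fin.ext (by simp))
        · exact h₂ (Fin.ext (by simp))
      · intro x jp j l hj h₁ h₂ hl hji hx
        obtain ⟨jp', l', e, hcomm⟩ := key_aux X' hc x jp j l hj h₁ h₂ hl hji hx
        refine (hcomm _).trans ?_
        show (X.σ jp').hom ((X.δ l').hom _) = 1
        rw [map_mul, map_inv]
        rw [show (X.δ l').hom ((X.δ j).hom x) = (X.δ l').hom (y j) from e, inv_mul_cancel, map_one])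
    hk x₀ hx₀

/-- Surjective maps of simplicial abelian groups are Kan fibrations. -/
theorem rlp_J_addGrp {X Y : SimplicialObject AddCommGrpCat.{u}} (f : X ⟶ Y)
    (hf : ∀ n, Function.Surjective (f.app n)) :
    SSet.modelCategoryQuillen.J.rlp (X := X ⋙ forget AddCommGrpCat.{u}) (Y := Y ⋙ forget AddCommGrpCat.{u})
      (Functor.whiskerRight f (forget AddCommGrpCat.{u})) := by
  let X' : SSet.{u} := X ⋙ forget AddCommGrpCat.{u}
  let f' : X' ⟶ (Y ⋙ forget AddCommGrpCat.{u} : SSet.{u}) := Functor.whiskerRight f (forget AddCommGrpCat.{u})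
  refine rlp_J_of_fill f' fun n i (y : Fin (n + 2) → X.obj (op ⦋n⦌)) (b : Y.obj (op ⦋n + 1⦌)) hc hy => ?_
  obtain ⟨x₀, hx₀⟩ := hf (op ⦋n + 1⦌) b
  have hk : ∀ x jp (j : Fin (n + 2)), (j = Fin.castSucc jp ∨ j = Fin.succ jp) → j ≠ i → f.app _ x = b →
      f.app _ ((X.σ jp).hom (-((X.δ j).hom x) + y j)) = 0 := by
    intro x jp j _ hji hx
    have h2 : f.app _ (-((X.δ j).hom x) + y j) = 0 := by
      rw [map_add, map_neg]
      have h3 : f.app _ ((X.δ j).hom x) = f.app _ (y j) := by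
        refine (app_δ f' j x).trans ?_
        rw [show f'.app (op ⦋n + 1⦌) x = b from hx]
        exact (hy j hji).symm
      rw [h3]; exact neg_add_cancel _
    refine (app_σ f' jp _).trans ?_
    show (Y.σ jp).hom (f.app _ _) = 0
    rw [h2, map_zero]
  exact fillAdd n (fun j => (X.δ j).hom) (fun j => (X.σ j).hom) (f.app (op ⦋n + 1⦌)).hom b i y
    (fun j w => (self_aux X' j w).1) (fun j w => (self_aux X' j w).2)
    (by
      obtain _ | m := n
      · intro x jp j l _ h₁ h₂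
        exfalso
        rcases Fin.exists_fin_two.1 ⟨l, rfl⟩ with h | h <;> subst h
        · exact h₁ (Fin.ext (by simp))
        · exact h₂ (Fin.ext (by simp))
      · intro x jp j l hj h₁ h₂ hl hji hx
        obtain ⟨jp', l', e, hcomm⟩ := key_aux X' hc x jp j l hj h₁ h₂ hl hji hx
        refine (hcomm _).trans ?_
        show (X.σ jp').hom ((X.δ l').hom _) = 0
        rw [map_add, map_neg]
        rw [show (X.δ l').hom ((X.δ j).hom x) = (X.δ l').hom (y j) from e, neg_add_cancel, map_zero])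
    hk x₀ hx₀

end Groth.Agent.SimpGrp
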