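import Mathlib.AlgebraicTopology.SimplicialSet.HornColimits
import Mathlib.AlgebraicTopology.SimplicialSet.CategoryWithFibrations
import Mathlib.AlgebraicTopology.SimplicialObject.Basic
import Mathlib.Algebra.Group.Hom.Defs
import Mathlib.Algebra.Category.Grp.Basic

/-!
# Moore's horn filling algorithm for simplicial groups
-/

universe u

open CategoryTheory Simplicial Opposite

namespace Groth.Agent.SimpGrp

/-- Horn filling in a group with face and degeneracy homomorphisms. -/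
@[to_additive fillAdd /-- Horn filling in an additive group with face and degeneracy homomorphisms. -/]
theorem fill {A B A' : Type u} [Group A] [Group B] [Group A'] (n : ℕ) (d : Fin (n + 2) → A →* B)
    (s : Fin (n + 1) → B →* A) (f : A →* A') (b : A') (i : Fin (n + 2)) (y : Fin (n + 2) → B)
    (h_self : ∀ j w, d j.castSucc (s j w) = w) (h_succ : ∀ j w, d j.succ (s j w) = w)
    (hkey : ∀ x (jp : Fin (n + 1)) (j l : Fin (n + 2)), (j = jp.castSucc ∨ j = jp.succ) → l ≠ jp.castSucc →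
      l ≠ jp.succ → l ≠ i → j ≠ i → d l x = y l → d l (s jp ((d j x)⁻¹ * y j)) = 1)
    (hf : ∀ x (jp : Fin (n + 1)) (j : Fin (n + 2)), (j = jp.castSucc ∨ j = jp.succ) → j ≠ i → f x = b →
      f (s jp ((d j x)⁻¹ * y j)) = 1)
    (x₀ : A) (hx₀ : f x₀ = b) :
    ∃ x : A, f x = b ∧ ∀ j, j ≠ i → d j x = y j := by
  have key : ∀ (x : A) (jp : Fin (n + 1)) (j : Fin (n + 2)), (j = jp.castSucc ∨ j = jp.succ) → j ≠ i → f x = b →
      ∃ x', f x' = b ∧ d j x' = y j ∧
        ∀ l, l ≠ i → l ≠ jp.castSucc → l ≠ jp.succ → d l x = y l → d l x' = y l := by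
    intro x jp j hj hji hx
    refine ⟨x * s jp ((d j x)⁻¹ * y j), by rw [map_mul, hf x jp j hj hji hx, mul_one, hx], ?_, ?_⟩
    · rcases hj with rfl | rfl
      · rw [map_mul, h_self, mul_inv_cancel_left]
      · rw [map_mul, h_succ, mul_inv_cancel_left]
    · intro l hli h₁ h₂ hl
      rw [map_mul, hkey x jp j l hj h₁ h₂ hli hji hl, mul_one, hl]
  have stepA : ∀ k : ℕ, k ≤ i.val → ∃ x, f x = b ∧ ∀ l : Fin (n + 2), l.val < k → d l x = y l := by
    intro k
    induction k with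
    | zero => exact fun _ => ⟨x₀, hx₀, fun l hl => absurd hl (Nat.not_lt_zero _)⟩
    | succ k ih =>
      intro hk
      obtain ⟨x, hx, hl⟩ := ih (by omega)
      have hkn : k < n + 1 := by omega
      obtain ⟨x', hx', hj, hrest⟩ := key x ⟨k, hkn⟩ _ (Or.inl rfl)
        (Fin.ne_of_val_ne (by simp only [Fin.val_castSucc]; omega)) hx
      refine ⟨x', hx', fun l hlk => ?_⟩
      rcases Nat.lt_succ_iff_lt_or_eq.1 hlk with h | h
      · exact hrest l (Fin.ne_of_val_ne (by omega)) (Fin.ne_of_val_ne (by simp only [Fin.val_castSucc]; omega))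
          (Fin.ne_of_val_ne (by simp only [Fin.val_succ]; omega)) (hl l h)
      · rw [show l = (⟨k, hkn⟩ : Fin (n + 1)).castSucc from Fin.ext (by simpa using h)]; exact hj
  have stepB : ∀ k : ℕ, k ≤ n + 1 - i.val → ∃ x, f x = b ∧
      ∀ l : Fin (n + 2), (l.val < i.val ∨ n + 2 ≤ l.val + k) → d l x = y l := by
    intro k
    induction k with
    | zero =>
      intro _
      obtain ⟨x, hx, hl⟩ := stepA i.val le_rfl
      exact ⟨x, hx, fun l h => hl l (h.resolve_right (by omega))⟩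
    | succ k ih =>
      intro hk
      obtain ⟨x, hx, hl⟩ := ih (by omega)
      have hkn : n - k < n + 1 := by omega
      obtain ⟨x', hx', hj, hrest⟩ := key x ⟨n - k, hkn⟩ _ (Or.inr rfl)
        (Fin.ne_of_val_ne (by simp only [Fin.val_succ]; omega)) hx
      refine ⟨x', hx', fun l hlk => ?_⟩
      by_cases h : l.val = n - k + 1
      · rw [show l = (⟨n - k, hkn⟩ : Fin (n + 1)).succ from Fin.ext (by simpa using h)]; exact hj
      · exact hrest l (Fin.ne_of_val_ne (by omega)) (Fin.ne_of_val_ne (by simp only [Fin.val_castSucc]; omega))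
          (Fin.ne_of_val_ne (by simp only [Fin.val_succ]; omega)) (hl l (by omega))
  obtain ⟨x, hx, hl⟩ := stepB _ le_rfl
  exact ⟨x, hx, fun j hj => hl j (by have := Fin.val_ne_of_ne hj; omega)⟩

lemma yonedaEquiv_δ_comp {X : SSet.{u}} {n : ℕ} (j : Fin (n + 2)) (φ : Δ[n + 1] ⟶ X) :
    SSet.yonedaEquiv (SSet.stdSimplex.δ j ≫ φ) = X.δ j (SSet.yonedaEquiv φ) := by
  obtain ⟨x, rfl⟩ := SSet.yonedaEquiv.symm.surjective φ
  rw [Equiv.apply_symm_apply]
  rfl

/-- Compatibility of the faces of a horn. -/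
def Compat {X : SSet.{u}} : ∀ {n : ℕ}, Fin (n + 2) → (Fin (n + 2) → X _⦋n⦌) → Prop
  | 0, _, _ => True
  | m + 1, i, y => ∀ (j k : Fin (m + 3)), j ≠ i → k ≠ i → (hjk : j < k) →
      X.δ (k.pred (Fin.ne_zero_of_lt hjk)) (y j) = X.δ (j.castPred (Fin.ne_last_of_lt hjk)) (y k)

/-- Reduction of the lifting property against horns to faces. -/
theorem rlp_J_of_fill {X Y : SSet.{u}} (f : X ⟶ Y)
    (h : ∀ (n : ℕ) (i : Fin (n + 2)) (y : Fin (n + 2) → X _⦋n⦌) (b : Y _⦋n + 1⦌),
      Compat i y →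
      (∀ j, j ≠ i → f.app _ (y j) = Y.δ j b) →
      ∃ x : X _⦋n + 1⦌, f.app _ x = b ∧ ∀ j, j ≠ i → X.δ j x = y j) :
    SSet.modelCategoryQuillen.J.rlp f := by
  classical
  intro P Q g hg
  simp only [SSet.modelCategoryQuillen.J, MorphismProperty.iSup_iff] at hg
  obtain ⟨n, ⟨i⟩⟩ := hg
  refine ⟨fun {t b} sq => ?_⟩
  obtain ⟨j₀, hj₀⟩ := exists_ne i
  let y := fun (j : Fin (n + 2)) =>
    SSet.yonedaEquiv (if hj : j ≠ i then SSet.horn.ι i j hj ≫ t else SSet.horn.ι i j₀ hj₀ ≫ t)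
  have hy : ∀ j (hj : j ≠ i), y j = SSet.yonedaEquiv (SSet.horn.ι i j hj ≫ t) := fun j hj =>
    congrArg SSet.yonedaEquiv (dif_pos hj)
  obtain ⟨x, hx, hxd⟩ := h n i y (SSet.yonedaEquiv b) (by
    obtain _ | m := n
    · exact trivial
    intro j k hj hk hjk
    rw [hy j hj, hy k hk, ← yonedaEquiv_δ_comp, ← yonedaEquiv_δ_comp]
    exact congrArg SSet.yonedaEquiv (SSet.horn.IsCompatible.of_hom t j k hj hk hjk)) (fun j hj => by
    rw [hy j hj, ← yonedaEquiv_δ_comp]
    have : (SSet.horn.ι i j hj ≫ t) ≫ f = SSet.stdSimplex.δ j ≫ b := by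
      rw [Category.assoc, sq.w, SSet.horn.ι_ι_assoc]
    rw [← this]
    rfl)
  refine ⟨⟨{ l := SSet.yonedaEquiv.symm x, fac_left := ?_, fac_right := ?_ }⟩⟩
  · refine SSet.horn.hom_ext' fun j hj => SSet.yonedaEquiv.injective ?_
    rw [SSet.horn.ι_ι_assoc, yonedaEquiv_δ_comp, Equiv.apply_symm_apply, hxd j hj, hy j hj]
  · rw [SSet.yonedaEquiv_symm_comp, hx, Equiv.symm_apply_apply]

end Groth.Agent.SimpGrp
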